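import Mathlib

/-! helper7: if a module `M` over an `A`-algebra `B` is flat over `A` away from `V(r)` and `r`
is regular on `M ⧸ 𝔪M`, then `r` is regular on `M ⊗ N` for `N` of finite length, and
`M ⊗ Q → M ⊗ N` is injective for submodules `Q ⊆ N` (kernels are `r`-power torsion). -/

set_option linter.style.haveILetI false
set_option linter.unusedVariables false
set_option linter.unusedSectionVars false
set_option linter.overlappingInstances false

open TensorProduct IsLocalRing

namespace Groth.Agent.Helper7.FibDepth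

universe u

variable {A B : Type u} [CommRing A] [CommRing B] [Algebra A B]
  {M : Type u} [AddCommGroup M] [Module B M] [Module A M] [IsScalarTower A B M]

/-- `lTensor` is linear for the action on the left factor. -/
theorem lTensor_smul {N' N : Type u} [AddCommGroup N'] [Module A N'] [AddCommGroup N] [Module A N]
    (f : N' →ₗ[A] N) (b : B) (x : M ⊗[A] N') :
    f.lTensor M (b • x) = b • f.lTensor M x := by
  induction x using TensorProduct.induction_on with
  | zero => simp
  | tmul m n => rw [smul_tmul', LinearMap.lTensor_tmul, LinearMap.lTensor_tmul, smul_tmul']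
  | add x y hx hy => rw [smul_add, map_add, hx, hy, map_add, smul_add]

/-- `rTensor` of a `B`-linear map is linear for the action on the left factor. -/
theorem rTensor_smul {M' : Type u} [AddCommGroup M'] [Module B M'] [Module A M']
    [IsScalarTower A B M'] {N : Type u} [AddCommGroup N] [Module A N]
    (g : M →ₗ[B] M') (b : B) (x : M ⊗[A] N) :
    (g.restrictScalars A).rTensor N (b • x) = b • (g.restrictScalars A).rTensor N x := by
  induction x using TensorProduct.induction_on with
  | zero => simp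
  | tmul m n =>
    rw [smul_tmul', LinearMap.rTensor_tmul, LinearMap.rTensor_tmul, smul_tmul']
    simp
  | add x y hx hy => rw [smul_add, map_add, hx, hy, map_add, smul_add]

/-- The kernel of `M ⊗ N' → M ⊗ N` for an injection `N' → N` is killed by powers of any `r`
outside of which `M` is flat. -/
theorem exists_pow_smul_eq_zero (r : B)
    (hU : ∀ q : Ideal B, ∀ hq : q.IsPrime, r ∉ q →
      Module.Flat A (LocalizedModule q.primeCompl M))
    {N' N : Type u} [AddCommGroup N'] [Module A N'] [AddCommGroup N] [Module A N]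
    (f : N' →ₗ[A] N) (hf : Function.Injective f) (x : M ⊗[A] N') (hx : f.lTensor M x = 0) :
    ∃ e : ℕ, r ^ e • x = 0 := by
  have hrad : r ∈ ((Submodule.span B {x}).annihilator).radical := by
    rw [Ideal.radical_eq_sInf, Ideal.mem_sInf]
    intro q hq'
    obtain ⟨hle, hq⟩ := hq'
    by_contra hrq
    haveI := hq
    haveI := hU q hq hrq
    set g : M →ₗ[B] LocalizedModule q.primeCompl M :=
      LocalizedModule.mkLinearMap q.primeCompl M with hg
    haveI : IsLocalizedModule q.primeCompl (AlgebraTensorModule.rTensor A N' g) :=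
      IsLocalizedModule.rTensor B q.primeCompl g
    have h1 : f.lTensor (LocalizedModule q.primeCompl M)
        (AlgebraTensorModule.rTensor A N' g x) = 0 := by
      have : f.lTensor (LocalizedModule q.primeCompl M)
          ((g.restrictScalars A).rTensor N' x) =
          (g.restrictScalars A).rTensor N (f.lTensor M x) := by
        rw [← LinearMap.comp_apply, ← LinearMap.comp_apply, LinearMap.lTensor_comp_rTensor,
          LinearMap.rTensor_comp_lTensor]
      rw [hx, map_zero] at this
      exact this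
    have h2 : AlgebraTensorModule.rTensor A N' g x = 0 := by
      apply Module.Flat.lTensor_preserves_injective_linearMap f hf
      rw [h1, map_zero]
    have h3 : AlgebraTensorModule.rTensor A N' g x = AlgebraTensorModule.rTensor A N' g 0 := by
      rw [h2, map_zero]
    obtain ⟨c, hc⟩ := IsLocalizedModule.exists_of_eq (S := q.primeCompl) h3
    rw [smul_zero] at hc
    have h4 : (c : B) ∈ (Submodule.span B {x}).annihilator :=
      (Submodule.mem_annihilator_span_singleton x _).2 hc
    exact c.2 (hle h4)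
  obtain ⟨e, he⟩ := hrad
  exact ⟨e, (Submodule.mem_annihilator_span_singleton x _).1 he⟩

/-- iterating regularity -/
theorem eq_zero_of_pow_smul_eq_zero {X : Type u} [AddCommGroup X] [Module B X] (r : B)
    (h : ∀ x : X, r • x = 0 → x = 0) (e : ℕ) (x : X) (hx : r ^ e • x = 0) : x = 0 := by
  induction e with
  | zero => simpa using hx
  | succ e ih =>
    apply ih
    apply h
    rw [smul_smul, ← pow_succ']
    exact hx

section Fibre

variable (𝔪 : Ideal A) [𝔪.IsMaximal]

/-- A retraction of multiplication by `r` on `M ⧸ 𝔪M` when `r` is regular there. -/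
theorem exists_retraction (r : B)
    (hreg : ∀ y : M, r • y ∈ (𝔪 • ⊤ : Submodule A M) → y ∈ (𝔪 • ⊤ : Submodule A M))
    (hstab : ∀ y : M, y ∈ (𝔪 • ⊤ : Submodule A M) → r • y ∈ (𝔪 • ⊤ : Submodule A M)) :
    ∃ (rbar ρ : (M ⧸ (𝔪 • ⊤ : Submodule A M)) →ₗ[A] (M ⧸ (𝔪 • ⊤ : Submodule A M))),
      (∀ y : M, rbar (Submodule.Quotient.mk y) = Submodule.Quotient.mk (r • y)) ∧
      ρ ∘ₗ rbar = LinearMap.id := by
  set P : Submodule A M := 𝔪 • ⊤ with hP
  let rM : M →ₗ[A] M := DistribSMul.toLinearMap A M r
  let rbar : (M ⧸ P) →ₗ[A] (M ⧸ P) := P.mapQ P rM (fun y hy => hstab y hy)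
  have hrbar : ∀ y : M, rbar (Submodule.Quotient.mk y) = Submodule.Quotient.mk (r • y) :=
    fun y => rfl
  letI : Field (A ⧸ 𝔪) := Ideal.Quotient.field 𝔪
  let rbar' : (M ⧸ P) →ₗ[A ⧸ 𝔪] (M ⧸ P) :=
    LinearMap.extendScalarsOfSurjective Ideal.Quotient.mk_surjective rbar
  have hker : LinearMap.ker rbar' = ⊥ := by
    rw [eq_bot_iff]
    intro z hz
    obtain ⟨y, rfl⟩ := Submodule.Quotient.mk_surjective _ z
    rw [LinearMap.mem_ker] at hz
    have hz' : rbar (Submodule.Quotient.mk y) = 0 := hz
    rw [hrbar, Submodule.Quotient.mk_eq_zero] at hz'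
    rw [Submodule.mem_bot, Submodule.Quotient.mk_eq_zero]
    exact hreg y hz'
  obtain ⟨g, hg⟩ := LinearMap.exists_leftInverse_of_injective rbar' hker
  refine ⟨rbar, g.restrictScalars A, hrbar, ?_⟩
  ext z
  have := LinearMap.congr_fun hg (Submodule.Quotient.mk z)
  exact this

/-- `r` is regular on `M ⊗ V` for `V` killed by `𝔪`, when regular on `M ⧸ 𝔪M`. -/
theorem eq_zero_of_smul_eq_zero_of_torsion (r : B)
    (hreg : ∀ y : M, r • y ∈ (𝔪 • ⊤ : Submodule A M) → y ∈ (𝔪 • ⊤ : Submodule A M))
    (hstab : ∀ y : M, y ∈ (𝔪 • ⊤ : Submodule A M) → r • y ∈ (𝔪 • ⊤ : Submodule A M))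
    {V : Type u} [AddCommGroup V] [Module A V] (hV : ∀ a ∈ 𝔪, ∀ v : V, a • v = 0)
    (x : M ⊗[A] V) (hx : r • x = 0) : x = 0 := by
  set P : Submodule A M := 𝔪 • ⊤ with hP
  obtain ⟨rbar, ρ, hrbar, hρ⟩ := exists_retraction 𝔪 r hreg hstab
  let rM : M →ₗ[A] M := DistribSMul.toLinearMap A M r
  have hrx : ∀ x : M ⊗[A] V, r • x = rM.rTensor V x := by
    intro x
    induction x using TensorProduct.induction_on with
    | zero => simp
    | tmul m n => rw [smul_tmul', LinearMap.rTensor_tmul]; rfl
    | add x y hx hy => rw [smul_add, map_add, hx, hy]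
  have hcomm : P.mkQ ∘ₗ rM = rbar ∘ₗ P.mkQ := by
    ext y
    exact (hrbar y).symm
  have h1 : rbar.rTensor V (P.mkQ.rTensor V x) = 0 := by
    rw [← LinearMap.comp_apply, ← LinearMap.rTensor_comp, ← hcomm, LinearMap.rTensor_comp,
      LinearMap.comp_apply, ← hrx, hx, map_zero]
  have h2 : P.mkQ.rTensor V x = 0 := by
    have := congr_arg (ρ.rTensor V) h1
    rw [map_zero, ← LinearMap.comp_apply, ← LinearMap.rTensor_comp, hρ, LinearMap.rTensor_id,
      LinearMap.id_apply] at this
    exact this
  have hex := rTensor_exact V (LinearMap.exact_subtype_mkQ P) (Submodule.mkQ_surjective P)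
  have hzero : ∀ y : M, y ∈ P → ∀ v : V, y ⊗ₜ[A] v = 0 := by
    intro y hy v
    refine Submodule.smul_induction_on hy ?_ ?_
    · intro a ha z _
      rw [smul_tmul, hV a ha, tmul_zero]
    · intro y z hy hz
      rw [add_tmul, hy, hz, add_zero]
  have hz : ∀ w : P ⊗[A] V, P.subtype.rTensor V w = 0 := by
    intro w
    induction w using TensorProduct.induction_on with
    | zero => simp
    | tmul y v => rw [LinearMap.rTensor_tmul]; exact hzero _ y.2 v
    | add x y hx hy => rw [map_add, hx, hy, add_zero]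
  obtain ⟨w, rfl⟩ := (hex x).1 h2
  exact hz w

end Fibre

section Reg

variable (𝔪 : Ideal A) [𝔪.IsMaximal]

/-- `r` is regular on `M ⊗ N` for `N` killed by a power of `𝔪`. -/
theorem eq_zero_of_smul_eq_zero_of_pow_torsion (r : B)
    (hU : ∀ q : Ideal B, ∀ hq : q.IsPrime, r ∉ q →
      Module.Flat A (LocalizedModule q.primeCompl M))
    (hreg : ∀ y : M, r • y ∈ (𝔪 • ⊤ : Submodule A M) → y ∈ (𝔪 • ⊤ : Submodule A M))
    (hstab : ∀ y : M, y ∈ (𝔪 • ⊤ : Submodule A M) → r • y ∈ (𝔪 • ⊤ : Submodule A M))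
    (n : ℕ) : ∀ (N : Type u) [AddCommGroup N] [Module A N]
      (hN : ∀ a ∈ 𝔪 ^ n, ∀ v : N, a • v = 0) (x : M ⊗[A] N) (hx : r • x = 0), x = 0 := by
  induction n with
  | zero =>
    intro N _ _ hN x hx
    haveI : Subsingleton N := ⟨fun a b => by
      have ha := hN 1 (by simp) a
      have hb := hN 1 (by simp) b
      rw [one_smul] at ha hb
      rw [ha, hb]⟩
    exact Subsingleton.elim _ _
  | succ n ih =>
    intro N _ _ hN x hx
    set N' : Submodule A N := 𝔪 • ⊤ with hN'
    have hN'tors : ∀ a ∈ 𝔪 ^ n, ∀ v : N', a • v = 0 := by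
      intro a ha v
      apply Subtype.ext
      rw [Submodule.coe_smul, Submodule.coe_zero]
      refine Submodule.smul_induction_on v.2 ?_ ?_
      · intro b hb z _
        rw [smul_smul]
        exact hN _ (by rw [pow_succ]; exact Ideal.mul_mem_mul ha hb) z
      · intro y z hy hz
        rw [smul_add, hy, hz, add_zero]
    have hVtors : ∀ a ∈ 𝔪, ∀ v : N ⧸ N', a • v = 0 := by
      intro a ha v
      obtain ⟨y, rfl⟩ := Submodule.Quotient.mk_surjective _ v
      rw [← Submodule.Quotient.mk_smul, Submodule.Quotient.mk_eq_zero]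
      exact Submodule.smul_mem_smul ha Submodule.mem_top
    have hex := lTensor_exact M (LinearMap.exact_subtype_mkQ N') (Submodule.mkQ_surjective N')
    have h1 : N'.mkQ.lTensor M x = 0 := by
      apply eq_zero_of_smul_eq_zero_of_torsion 𝔪 r hreg hstab hVtors
      rw [← lTensor_smul, hx, map_zero]
    obtain ⟨y, rfl⟩ := (hex x).1 h1
    have h2 : N'.subtype.lTensor M (r • y) = 0 := by rw [lTensor_smul, hx]
    obtain ⟨e, he⟩ := exists_pow_smul_eq_zero r hU N'.subtype (Submodule.injective_subtype N')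
      (r • y) h2
    have h3 : y = 0 := by
      apply eq_zero_of_pow_smul_eq_zero r (ih N' hN'tors) (e + 1)
      rw [pow_succ, ← smul_smul]
      exact he
    rw [h3, map_zero]

/-- injectivity of `M ⊗ Q → M ⊗ N` for `Q ⊆ N` killed by a power of `𝔪` -/
theorem lTensor_injective_of_pow_torsion (r : B)
    (hU : ∀ q : Ideal B, ∀ hq : q.IsPrime, r ∉ q →
      Module.Flat A (LocalizedModule q.primeCompl M))
    (hreg : ∀ y : M, r • y ∈ (𝔪 • ⊤ : Submodule A M) → y ∈ (𝔪 • ⊤ : Submodule A M))
    (hstab : ∀ y : M, y ∈ (𝔪 • ⊤ : Submodule A M) → r • y ∈ (𝔪 • ⊤ : Submodule A M))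
    (n : ℕ) (N : Type u) [AddCommGroup N] [Module A N]
    (hN : ∀ a ∈ 𝔪 ^ n, ∀ v : N, a • v = 0) (Q : Submodule A N) :
    Function.Injective (Q.subtype.lTensor M) := by
  rw [injective_iff_map_eq_zero]
  intro x hx
  obtain ⟨e, he⟩ := exists_pow_smul_eq_zero r hU Q.subtype (Submodule.injective_subtype Q) x hx
  have hQ : ∀ a ∈ 𝔪 ^ n, ∀ v : Q, a • v = 0 := by
    intro a ha v
    apply Subtype.ext
    rw [Submodule.coe_smul, Submodule.coe_zero]
    exact hN a ha v
  exact eq_zero_of_pow_smul_eq_zero r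
    (eq_zero_of_smul_eq_zero_of_pow_torsion 𝔪 r hU hreg hstab n Q hQ) e x he

end Reg

end Groth.Agent.Helper7.FibDepth
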