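import Mathlib
import Groth.Agent.Lib.Helper1.LocalCrit
import Groth.Agent.Lib.Helper7.FibDepth.Tors

/-! helper7: for a module `M` flat over a local ring `A`, an element regular on the closed fibre
`M ⧸ 𝔪M` is regular on every `M ⧸ 𝔪^n M` and on `M`, and `M ⧸ rM` stays flat. -/

set_option linter.style.haveILetI false
set_option linter.unusedVariables false
set_option linter.unusedSectionVars false
set_option linter.overlappingInstances false

open TensorProduct IsLocalRing

namespace Groth.Agent.Helper7.FibDepth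

universe u

open Groth.Agent.Helper1.LocalCrit

section F1

variable {A B : Type u} [CommRing A] [CommRing B] [Algebra A B]
  {M : Type u} [AddCommGroup M] [Module B M] [Module A M] [IsScalarTower A B M]
  (𝔪 : Ideal A) [𝔪.IsMaximal]

/-- For `M` flat over `A`: `r` regular on `M ⧸ 𝔪M` is regular on `M ⊗ N` for `N` killed by a
power of `𝔪`. -/
theorem eq_zero_of_smul_eq_zero_of_pow_torsion_of_flat [Module.Flat A M] (r : B)
    (hreg : ∀ y : M, r • y ∈ (𝔪 • ⊤ : Submodule A M) → y ∈ (𝔪 • ⊤ : Submodule A M))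
    (hstab : ∀ y : M, y ∈ (𝔪 • ⊤ : Submodule A M) → r • y ∈ (𝔪 • ⊤ : Submodule A M))
    (n : ℕ) : ∀ (N : Type u) [AddCommGroup N] [Module A N]
      (hN : ∀ a ∈ 𝔪 ^ n, ∀ v : N, a • v = 0) (x : M ⊗[A] N) (hx : r • x = 0), x = 0 := by
  induction n with
  | zero =>
    intro N _ _ hN x hx
    haveI : Subsingleton N := ⟨fun a b => by
      have ha := hN 1 (by simp) a
      have hb := hN 1 (by simp) b
      rw [one_smul] at ha hb
      rw [ha, hb]⟩
    exact Subsingleton.elim _ _
  | succ n ih =>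
    intro N _ _ hN x hx
    set N' : Submodule A N := 𝔪 • ⊤ with hN'
    have hN'tors : ∀ a ∈ 𝔪 ^ n, ∀ v : N', a • v = 0 := by
      intro a ha v
      apply Subtype.ext
      rw [Submodule.coe_smul, Submodule.coe_zero]
      refine Submodule.smul_induction_on v.2 ?_ ?_
      · intro b hb z _
        rw [smul_smul]
        exact hN _ (by rw [pow_succ]; exact Ideal.mul_mem_mul ha hb) z
      · intro y z hy hz
        rw [smul_add, hy, hz, add_zero]
    have hVtors : ∀ a ∈ 𝔪, ∀ v : N ⧸ N', a • v = 0 := by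
      intro a ha v
      obtain ⟨y, rfl⟩ := Submodule.Quotient.mk_surjective _ v
      rw [← Submodule.Quotient.mk_smul, Submodule.Quotient.mk_eq_zero]
      exact Submodule.smul_mem_smul ha Submodule.mem_top
    have hex := lTensor_exact M (LinearMap.exact_subtype_mkQ N') (Submodule.mkQ_surjective N')
    have h1 : N'.mkQ.lTensor M x = 0 := by
      apply eq_zero_of_smul_eq_zero_of_torsion 𝔪 r hreg hstab hVtors
      rw [← lTensor_smul, hx, map_zero]
    obtain ⟨y, rfl⟩ := (hex x).1 h1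
    have hinj : Function.Injective (N'.subtype.lTensor M) :=
      Module.Flat.lTensor_preserves_injective_linearMap _ (Submodule.injective_subtype N')
    have h2 : N'.subtype.lTensor M (r • y) = 0 := by rw [lTensor_smul, hx]
    have h3 : r • y = 0 := hinj (by rw [h2, map_zero])
    rw [ih N' hN'tors y h3, map_zero]

/-- elementwise regularity of `r` on `M ⧸ 𝔪^n M` -/
theorem mem_pow_smul_top_of_smul_mem [Module.Flat A M] (r : B)
    (hreg : ∀ y : M, r • y ∈ (𝔪 • ⊤ : Submodule A M) → y ∈ (𝔪 • ⊤ : Submodule A M))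
    (hstab : ∀ y : M, y ∈ (𝔪 • ⊤ : Submodule A M) → r • y ∈ (𝔪 • ⊤ : Submodule A M))
    (n : ℕ) (y : M) (hy : r • y ∈ (𝔪 ^ n • ⊤ : Submodule A M)) :
    y ∈ (𝔪 ^ n • ⊤ : Submodule A M) := by
  have hN : ∀ a ∈ 𝔪 ^ n, ∀ v : A ⧸ 𝔪 ^ n, a • v = 0 := by
    intro a ha v
    obtain ⟨b, rfl⟩ := Ideal.Quotient.mk_surjective v
    rw [Algebra.smul_def, Ideal.Quotient.algebraMap_eq, ← map_mul,
      Ideal.Quotient.eq_zero_iff_mem]
    exact Ideal.mul_mem_right _ _ ha
  set e := TensorProduct.tensorQuotEquivQuotSMul M (𝔪 ^ n) with he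
  have h1 : ∀ z : M, e (z ⊗ₜ[A] (1 : A ⧸ 𝔪 ^ n)) = Submodule.Quotient.mk z := by
    intro z
    have := TensorProduct.tensorQuotEquivQuotSMul_tmul_mk (𝔪 ^ n) z (1 : A)
    rw [one_smul] at this
    exact this
  have h2 : r • (y ⊗ₜ[A] (1 : A ⧸ 𝔪 ^ n)) = 0 := by
    apply e.injective
    rw [smul_tmul', h1, map_zero, Submodule.Quotient.mk_eq_zero]
    exact hy
  have h3 := eq_zero_of_smul_eq_zero_of_pow_torsion_of_flat 𝔪 r hreg hstab n (A ⧸ 𝔪 ^ n) hN _ h2
  have h4 := congr_arg e h3
  rw [h1, map_zero, Submodule.Quotient.mk_eq_zero] at h4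
  exact h4

end F1

section F3

variable (A B : Type u) [CommRing A] [CommRing B]
  [IsNoetherianRing A] [IsNoetherianRing B] [IsLocalRing A] [IsLocalRing B] [Algebra A B]
  [IsLocalHom (algebraMap A B)]
  (M : Type u) [AddCommGroup M] [Module B M] [Module A M] [IsScalarTower A B M] [Module.Finite B M]

/-- `r` regular on `M ⧸ 𝔪M` and `M` flat: `r` is regular on `M`. -/
theorem eq_zero_of_smul_eq_zero_of_flat [Module.Flat A M] (r : B)
    (hreg : ∀ y : M, r • y ∈ (maximalIdeal A • ⊤ : Submodule A M) →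
      y ∈ (maximalIdeal A • ⊤ : Submodule A M))
    (hstab : ∀ y : M, y ∈ (maximalIdeal A • ⊤ : Submodule A M) →
      r • y ∈ (maximalIdeal A • ⊤ : Submodule A M))
    (y : M) (hy : r • y = 0) : y = 0 := by
  have hI : (maximalIdeal A).map (algebraMap A B) ≠ ⊤ :=
    map_ne_top_of_isLocalHom (maximalIdeal A) (maximalIdeal.isMaximal A).ne_top
  apply iInf_pow_smul_top_eq_bot (S := B) (maximalIdeal A) hI M
  intro n
  apply mem_pow_smul_top_of_smul_mem (maximalIdeal A) r hreg hstab n
  rw [hy]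
  exact Submodule.zero_mem _

/-- `r` regular on `M ⧸ 𝔪M` and `M` flat: `M ⧸ rM` is flat. -/
theorem flat_quotSMulTop_of_flat [Module.Flat A M] (r : B)
    (hreg : ∀ y : M, r • y ∈ (maximalIdeal A • ⊤ : Submodule A M) →
      y ∈ (maximalIdeal A • ⊤ : Submodule A M))
    (hstab : ∀ y : M, y ∈ (maximalIdeal A • ⊤ : Submodule A M) →
      r • y ∈ (maximalIdeal A • ⊤ : Submodule A M)) :
    Module.Flat A (QuotSMulTop r M) := by
  set 𝔪 := maximalIdeal A with h𝔪
  have hI : 𝔪.map (algebraMap A B) ≠ ⊤ :=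
    map_ne_top_of_isLocalHom 𝔪 (maximalIdeal.isMaximal A).ne_top
  letI : Field (A ⧸ 𝔪) := Ideal.Quotient.field 𝔪
  haveI : Module.Flat (A ⧸ 𝔪) ((A ⧸ 𝔪) ⊗[A] QuotSMulTop r M) := inferInstance
  refine flat_of_rTensor_injective_of_flat_quotient (S := B) 𝔪 hI ?_
  rw [← LinearMap.lTensor_inj_iff_rTensor_inj]
  set π : M →ₗ[B] QuotSMulTop r M := Submodule.mkQ _ with hπ
  have hπs : Function.Surjective π := Submodule.mkQ_surjective _
  have hπker : ∀ w : M, π w = 0 → ∃ z : M, w = r • z := by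
    intro w hw
    rw [hπ, Submodule.mkQ_apply, Submodule.Quotient.mk_eq_zero] at hw
    obtain ⟨z, -, hz⟩ := (Submodule.mem_smul_pointwise_iff_exists _ _ _).1 hw
    exact ⟨z, hz.symm⟩
  -- the map `M ⊗ 𝔪 → M`
  let μ : M ⊗[A] 𝔪 →ₗ[A] M := (TensorProduct.rid A M).toLinearMap ∘ₗ 𝔪.subtype.lTensor M
  have hμmem : ∀ t : M ⊗[A] 𝔪, μ t ∈ (𝔪 • ⊤ : Submodule A M) := by
    intro t
    induction t using TensorProduct.induction_on with
    | zero => rw [map_zero]; exact Submodule.zero_mem _
    | tmul m a =>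
      show (TensorProduct.rid A M) (m ⊗ₜ[A] (a : A)) ∈ _
      rw [TensorProduct.rid_tmul]
      exact Submodule.smul_mem_smul a.2 Submodule.mem_top
    | add x y hx hy => rw [map_add]; exact Submodule.add_mem _ hx hy
  have hμsurj : ∀ z ∈ (𝔪 • ⊤ : Submodule A M), ∃ t : M ⊗[A] 𝔪, μ t = z := by
    intro z hz
    refine Submodule.smul_induction_on hz ?_ ?_
    · intro a ha m _
      refine ⟨m ⊗ₜ[A] ⟨a, ha⟩, ?_⟩
      show (TensorProduct.rid A M) (m ⊗ₜ[A] a) = _
      rw [TensorProduct.rid_tmul]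
    · rintro x y ⟨t, rfl⟩ ⟨t', rfl⟩
      exact ⟨t + t', map_add _ _ _⟩
  have hμsmul : ∀ t : M ⊗[A] 𝔪, μ (r • t) = r • μ t := by
    intro t
    induction t using TensorProduct.induction_on with
    | zero => simp
    | tmul m a =>
      show (TensorProduct.rid A M) ((𝔪.subtype.lTensor M) (r • m ⊗ₜ[A] a)) =
        r • (TensorProduct.rid A M) ((𝔪.subtype.lTensor M) (m ⊗ₜ[A] a))
      rw [smul_tmul', LinearMap.lTensor_tmul, LinearMap.lTensor_tmul, TensorProduct.rid_tmul,
        TensorProduct.rid_tmul, smul_comm]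
    | add x y hx hy => rw [smul_add, map_add, hx, hy, map_add, smul_add]
  have hμinj : Function.Injective μ := by
    have h1 : Function.Injective (𝔪.subtype.lTensor M) :=
      Module.Flat.lTensor_preserves_injective_linearMap _ (Submodule.injective_subtype 𝔪)
    exact (TensorProduct.rid A M).injective.comp h1
  have hkill : ∀ t : QuotSMulTop r M ⊗[A] 𝔪, r • t = 0 := by
    intro t
    induction t using TensorProduct.induction_on with
    | zero => simp
    | tmul m a =>
      obtain ⟨m, rfl⟩ := hπs m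
      rw [smul_tmul', ← map_smul]
      have : π (r • m) = 0 := by
        rw [hπ, Submodule.mkQ_apply, Submodule.Quotient.mk_eq_zero]
        exact Submodule.smul_mem_pointwise_smul m r ⊤ Submodule.mem_top
      rw [this, zero_tmul]
    | add x y hx hy => rw [smul_add, hx, hy, add_zero]
  rw [injective_iff_map_eq_zero]
  intro x hx
  obtain ⟨y, rfl⟩ := LinearMap.rTensor_surjective 𝔪 (g := π.restrictScalars A) hπs x
  -- image of `μ y` under `π` vanishes
  have h1 : π (μ y) = 0 := by
    have h2 : (π.restrictScalars A) ∘ₗ μ =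
        (TensorProduct.rid A (QuotSMulTop r M)).toLinearMap ∘ₗ
          (𝔪.subtype.lTensor (QuotSMulTop r M)) ∘ₗ ((π.restrictScalars A).rTensor 𝔪) := by
      apply TensorProduct.ext'
      intro m a
      simp [μ]
    have h3 := LinearMap.congr_fun h2 y
    simp only [LinearMap.comp_apply] at h3
    rw [hx, map_zero] at h3
    exact h3
  obtain ⟨z, hz⟩ := hπker _ h1
  have hz1 : z ∈ (𝔪 • ⊤ : Submodule A M) := by
    apply hreg
    rw [← hz]
    exact hμmem y
  obtain ⟨y', hy'⟩ := hμsurj z hz1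
  have h4 : y = r • y' := by
    apply hμinj
    rw [hμsmul, hy', hz]
  rw [h4, rTensor_smul, hkill]

end F3

end Groth.Agent.Helper7.FibDepth
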