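import Mathlib
import Groth.Prelude.Def_FlatCA
import Groth.Prelude.Def_EGA4b
import Groth.Prelude.Def_CAlg
import Groth.Agent.Lib.Helper1.LocalCrit
import Groth.Agent.Lib.Helper7.FibDepth.Tors

/-! helper7: a finite module over a local Noetherian algebra, flat over the base away from `V(J)`
and whose closed fibre has `J`-depth at least one, is flat (local criterion plus a torsion
argument on kernels). -/

set_option linter.style.haveILetI false
set_option linter.unusedVariables false
set_option linter.unusedSectionVars false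
set_option linter.overlappingInstances false

open TensorProduct IsLocalRing

namespace Groth.Agent.Helper7.FibDepth

universe u

open Groth.Agent.Helper1.LocalCrit

section

variable (A B : Type u) [CommRing A] [CommRing B]
  [IsNoetherianRing A] [IsNoetherianRing B] [IsLocalRing A] [IsLocalRing B] [Algebra A B]
  [IsLocalHom (algebraMap A B)]
  (M : Type u) [AddCommGroup M] [Module B M] [Module A M] [IsScalarTower A B M] [Module.Finite B M]

theorem flat_of_regular (r : B)
    (hU : ∀ q : Ideal B, ∀ hq : q.IsPrime, r ∉ q →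
      Module.Flat A (LocalizedModule q.primeCompl M))
    (hreg : ∀ y : M, r • y ∈ (maximalIdeal A • ⊤ : Submodule A M) →
      y ∈ (maximalIdeal A • ⊤ : Submodule A M))
    (hstab : ∀ y : M, y ∈ (maximalIdeal A • ⊤ : Submodule A M) →
      r • y ∈ (maximalIdeal A • ⊤ : Submodule A M)) : Module.Flat A M := by
  set 𝔪 := maximalIdeal A with h𝔪
  have hI : 𝔪.map (algebraMap A B) ≠ ⊤ :=
    map_ne_top_of_isLocalHom 𝔪 (maximalIdeal.isMaximal A).ne_top
  have hc : ∀ n : ℕ, 0 < n → ∀ Q : Submodule A (A ⧸ 𝔪 ^ n),
      Function.Injective (Q.subtype.rTensor M) := by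
    intro n _ Q
    rw [← LinearMap.lTensor_inj_iff_rTensor_inj]
    refine lTensor_injective_of_pow_torsion 𝔪 r hU hreg hstab n (A ⧸ 𝔪 ^ n) ?_ Q
    intro a ha v
    obtain ⟨b, rfl⟩ := Ideal.Quotient.mk_surjective v
    rw [Algebra.smul_def, Ideal.Quotient.algebraMap_eq, ← map_mul,
      Ideal.Quotient.eq_zero_iff_mem]
    exact Ideal.mul_mem_right _ _ ha
  rw [Module.Flat.iff_rTensor_injective']
  intro J
  rw [injective_iff_map_eq_zero]
  intro x hx
  have hmem := mem_pow_smul_top_of_rTensor_eq_zero M 𝔪 hc J x hx
  have : Module.Finite A J := Module.Finite.of_fg (IsNoetherian.noetherian J)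
  have := finite_tensorProduct (R := A) (S := B) M J
  have : TensorProduct.comm A J M x = 0 := by
    apply iInf_pow_smul_top_eq_bot (S := B) 𝔪 hI (M ⊗[A] J)
    intro n
    have h3 : Submodule.map (TensorProduct.comm A J M).toLinearMap
        (𝔪 ^ n • (⊤ : Submodule A (J ⊗[A] M))) = 𝔪 ^ n • ⊤ := by
      rw [Submodule.map_smul'', Submodule.map_top, LinearEquiv.range]
    rw [← h3]
    exact Submodule.mem_map_of_mem (hmem n)
  exact (TensorProduct.comm A J M).injective (by rw [this, map_zero])

theorem main (J : Ideal B)
    (hU : ∀ q : PrimeSpectrum B, ¬ J ≤ q.asIdeal → FlatCA.FlatAt A q.asIdeal M)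
    (h1 : 1 ≤ LocCoh.idealDepth J (EGA4.FibMod A B M)) : Module.Flat A M := by
  have hP : ∀ y : M, y ∈ (maximalIdeal A • ⊤ : Submodule A M) ↔
      y ∈ (EGA4.mB A B • ⊤ : Submodule B M) := by
    intro y
    have := Ideal.smul_restrictScalars (maximalIdeal A) (⊤ : Submodule B M)
    rw [Submodule.restrictScalars_top] at this
    rw [← this]
    rfl
  have hjac : Ideal.jacobson (⊥ : Ideal B) = maximalIdeal B :=
    IsLocalRing.jacobson_eq_maximalIdeal ⊥ bot_ne_top
  unfold LocCoh.idealDepth at h1
  split_ifs at h1 with htop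
  · by_cases hJ : J = ⊤
    · have hflat : Module.Flat A (LocalizedModule (maximalIdeal B).primeCompl M) :=
        hU ⟨maximalIdeal B, inferInstance⟩ (by
          rw [hJ]
          exact fun h => (maximalIdeal.isMaximal B).ne_top (top_le_iff.1 h))
      haveI : IsLocalization (maximalIdeal B).primeCompl B :=
        IsLocalization.of_le_isUnit (fun x hx => IsLocalRing.notMem_maximalIdeal.1 hx)
      haveI : IsLocalizedModule (maximalIdeal B).primeCompl (LinearMap.id : M →ₗ[B] M) :=
        isLocalizedModule_id _ M B
      let e : LocalizedModule (maximalIdeal B).primeCompl M ≃ₗ[B] M :=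
        IsLocalizedModule.iso _ LinearMap.id
      exact Module.Flat.of_linearEquiv (e.symm.restrictScalars A)
    · have hJle : J ≤ Ideal.jacobson ⊥ := by
        rw [hjac]
        exact IsLocalRing.le_maximalIdeal hJ
      have h2 : (⊤ : Submodule B (EGA4.FibMod A B M)) = ⊥ :=
        Submodule.eq_bot_of_le_smul_of_le_jacobson_bot J ⊤ Module.Finite.fg_top
          (by rw [htop]) hJle
      haveI : Subsingleton (Submodule B (EGA4.FibMod A B M)) := subsingleton_of_bot_eq_top h2.symm
      haveI : Subsingleton (EGA4.FibMod A B M) := (Submodule.subsingleton_iff B).1 inferInstance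
      have h3 : (EGA4.mB A B • ⊤ : Submodule B M) = ⊤ :=
        Submodule.Quotient.subsingleton_iff.1 inferInstance
      have hmle : EGA4.mB A B ≤ Ideal.jacobson ⊥ := by
        rw [hjac]
        exact IsLocalRing.map_maximalIdeal_le (algebraMap A B)
      have h4 : (⊤ : Submodule B M) = ⊥ :=
        Submodule.eq_bot_of_le_smul_of_le_jacobson_bot (EGA4.mB A B) ⊤ Module.Finite.fg_top
          (by rw [h3]) hmle
      haveI : Subsingleton (Submodule B M) := subsingleton_of_bot_eq_top h4.symm
      haveI : Subsingleton M := (Submodule.subsingleton_iff B).1 inferInstance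
      infer_instance
  · have hex : ∃ r ∈ J, IsSMulRegular (EGA4.FibMod A B M) r := by
      by_contra hcon
      push Not at hcon
      have hle : (⨆ (rs : List B) (_ : RingTheory.Sequence.IsWeaklyRegular (EGA4.FibMod A B M) rs ∧
          ∀ r ∈ rs, r ∈ J), (rs.length : ℕ∞)) ≤ 0 := by
        refine iSup_le fun rs => iSup_le fun hrs => ?_
        cases rs with
        | nil => simp
        | cons r rs' =>
          exfalso
          exact hcon r (hrs.2 r List.mem_cons_self)
            ((RingTheory.Sequence.isWeaklyRegular_cons_iff _ r rs').1 hrs.1).1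
      exact absurd (h1.trans hle) (by simp)
    obtain ⟨r, hrJ, hr⟩ := hex
    apply flat_of_regular A B M r
    · intro q hq hrq
      exact hU ⟨q, hq⟩ (fun hle => hrq (hle hrJ))
    · intro y hy
      rw [hP] at hy ⊢
      have h5 : r • (Submodule.Quotient.mk y : EGA4.FibMod A B M) = r • 0 := by
        rw [smul_zero, ← Submodule.Quotient.mk_smul, Submodule.Quotient.mk_eq_zero]
        exact hy
      exact (Submodule.Quotient.mk_eq_zero _).1 (hr h5)
    · intro y hy
      rw [hP] at hy ⊢
      exact Submodule.smul_mem _ r hy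

end

end Groth.Agent.Helper7.FibDepth
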