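import Mathlib
import Groth.Prelude.Def_FlatCA
import Groth.Prelude.Def_EGA4b
import Groth.Prelude.Def_CAlg
import Groth.Agent.Lib.Helper1.LocalCrit
import Groth.Agent.Lib.Helper7.FibDepth.Main
import Groth.Agent.Lib.Helper7.FibDepth.FlatReg

/-! helper7: depth at least two of the closed fibre along `V(J)` propagates to every
infinitesimal neighbourhood `M ⧸ 𝔪^(n+1) M` (for `M` flat off `V(J)`). -/

set_option linter.style.haveILetI false
set_option linter.unusedVariables false
set_option linter.unusedSectionVars false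
set_option linter.overlappingInstances false

open TensorProduct IsLocalRing

namespace Groth.Agent.Helper7.FibDepth

universe u

open Groth.Agent.Helper1.LocalCrit

section Gen

variable {A B : Type u} [CommRing A] [CommRing B] [Algebra A B]
  {M : Type u} [AddCommGroup M] [Module B M] [Module A M] [IsScalarTower A B M]

/-- membership in `𝔞 • ⊤` of a quotient -/
theorem mk_mem_smul_top_iff (𝔞 : Ideal A) (P : Submodule B M) (y : M) :
    (Submodule.Quotient.mk y : M ⧸ P) ∈ (𝔞 • ⊤ : Submodule A (M ⧸ P)) ↔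
      ∃ w ∈ (𝔞 • ⊤ : Submodule A M), y - w ∈ P := by
  have h : (𝔞 • ⊤ : Submodule A (M ⧸ P)) =
      Submodule.map (P.mkQ.restrictScalars A) (𝔞 • ⊤) := by
    rw [Submodule.map_smul'', Submodule.map_top]
    congr 1
    symm
    rw [LinearMap.range_eq_top]
    exact P.mkQ_surjective
  rw [h, Submodule.mem_map]
  constructor
  · rintro ⟨w, hw, hwy⟩
    refine ⟨w, hw, ?_⟩
    have : (Submodule.Quotient.mk w : M ⧸ P) = Submodule.Quotient.mk y := hwy
    rw [← Submodule.Quotient.mk_eq_zero P, Submodule.Quotient.mk_sub, this, sub_self]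
  · rintro ⟨w, hw, hwy⟩
    refine ⟨w, hw, ?_⟩
    show (Submodule.Quotient.mk w : M ⧸ P) = Submodule.Quotient.mk y
    symm
    rw [Submodule.Quotient.eq]
    exact hwy

theorem smul_mem_smul_top (𝔞 : Ideal A) (r : B) (y : M)
    (hy : y ∈ (𝔞 • ⊤ : Submodule A M)) : r • y ∈ (𝔞 • ⊤ : Submodule A M) := by
  refine Submodule.smul_induction_on hy ?_ ?_
  · intro a ha m _
    rw [smul_comm]
    exact Submodule.smul_mem_smul ha Submodule.mem_top
  · intro x z hx hz
    rw [smul_add]
    exact Submodule.add_mem _ hx hz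

theorem mk_mk_eq_zero_iff (P : Submodule B M) (r : B) (y : M) :
    (Submodule.Quotient.mk (Submodule.Quotient.mk y : M ⧸ P) : QuotSMulTop r (M ⧸ P)) = 0 ↔
      ∃ z : M, y - r • z ∈ P := by
  rw [Submodule.Quotient.mk_eq_zero, Submodule.mem_smul_pointwise_iff_exists]
  constructor
  · rintro ⟨z, -, hz⟩
    obtain ⟨z, rfl⟩ := Submodule.Quotient.mk_surjective _ z
    refine ⟨z, ?_⟩
    rw [← Submodule.Quotient.mk_eq_zero P, Submodule.Quotient.mk_sub, Submodule.Quotient.mk_smul,
      hz, sub_self]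
  · rintro ⟨z, hz⟩
    refine ⟨Submodule.Quotient.mk z, Submodule.mem_top, ?_⟩
    rw [← Submodule.Quotient.mk_smul]
    symm
    rw [Submodule.Quotient.eq]
    exact hz

theorem isSMulRegular_quotSMulTop_quot_iff (P : Submodule B M) (r1 r2 : B) :
    IsSMulRegular (QuotSMulTop r1 (M ⧸ P)) r2 ↔
      ∀ y : M, (∃ z : M, r2 • y - r1 • z ∈ P) → ∃ z' : M, y - r1 • z' ∈ P := by
  rw [isSMulRegular_iff_right_eq_zero_of_smul]
  constructor
  · intro h y hy
    rw [← mk_mk_eq_zero_iff] at hy ⊢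
    apply h
    rw [← Submodule.Quotient.mk_smul, ← Submodule.Quotient.mk_smul]
    exact hy
  · intro h y hy
    obtain ⟨y, rfl⟩ := Submodule.Quotient.mk_surjective _ y
    obtain ⟨y, rfl⟩ := Submodule.Quotient.mk_surjective _ y
    rw [← Submodule.Quotient.mk_smul, ← Submodule.Quotient.mk_smul, mk_mk_eq_zero_iff] at hy
    rw [mk_mk_eq_zero_iff]
    exact h y hy

end Gen

section

variable (A B : Type u) [CommRing A] [CommRing B]
  [IsNoetherianRing A] [IsNoetherianRing B] [IsLocalRing A] [IsLocalRing B] [Algebra A B]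
  [IsLocalHom (algebraMap A B)]
  (M : Type u) [AddCommGroup M] [Module B M] [Module A M] [IsScalarTower A B M] [Module.Finite B M]

theorem depth_two (J : Ideal B)
    (hU : ∀ q : PrimeSpectrum B, ¬ J ≤ q.asIdeal → FlatCA.FlatAt A q.asIdeal M)
    (h2 : 2 ≤ LocCoh.idealDepth J (EGA4.FibMod A B M)) (n : ℕ) :
    2 ≤ LocCoh.idealDepth J (M ⧸ ((EGA4.mB A B) ^ (n + 1) • (⊤ : Submodule B M))) := by
  haveI hflat : Module.Flat A M := main A B M J hU (le_trans (by norm_num) h2)
  set 𝔪 := maximalIdeal A with h𝔪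
  set I := EGA4.mB A B with hI
  have hP : ∀ (k : ℕ) (y : M), y ∈ (𝔪 ^ k • ⊤ : Submodule A M) ↔
      y ∈ (I ^ k • ⊤ : Submodule B M) := by
    intro k y
    rw [← pow_smul_top_restrictScalars (S := B)]
    rfl
  have hP1 : ∀ y : M, y ∈ (𝔪 • ⊤ : Submodule A M) ↔ y ∈ (I • ⊤ : Submodule B M) := by
    intro y
    have := hP 1 y
    rwa [pow_one, pow_one] at this
  have hjac : Ideal.jacobson (⊥ : Ideal B) = maximalIdeal B :=
    IsLocalRing.jacobson_eq_maximalIdeal ⊥ bot_ne_top
  unfold LocCoh.idealDepth at h2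
  split_ifs at h2 with htop
  · -- `J • ⊤ = ⊤` in the fibre
    have hgoal : J • (⊤ : Submodule B (M ⧸ (I ^ (n + 1) • (⊤ : Submodule B M)))) = ⊤ := by
      by_cases hJ : J = ⊤
      · rw [hJ, Submodule.top_smul]
      · have hJle : J ≤ Ideal.jacobson ⊥ := by
          rw [hjac]
          exact IsLocalRing.le_maximalIdeal hJ
        have h2 : (⊤ : Submodule B (EGA4.FibMod A B M)) = ⊥ :=
          Submodule.eq_bot_of_le_smul_of_le_jacobson_bot J ⊤ Module.Finite.fg_top
            (by rw [htop]) hJle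
        haveI : Subsingleton (Submodule B (EGA4.FibMod A B M)) :=
          subsingleton_of_bot_eq_top h2.symm
        haveI : Subsingleton (EGA4.FibMod A B M) := (Submodule.subsingleton_iff B).1 inferInstance
        have h3 : (EGA4.mB A B • ⊤ : Submodule B M) = ⊤ :=
          Submodule.Quotient.subsingleton_iff.1 inferInstance
        have hmle : EGA4.mB A B ≤ Ideal.jacobson ⊥ := by
          rw [hjac]
          exact IsLocalRing.map_maximalIdeal_le (algebraMap A B)
        have h4 : (⊤ : Submodule B M) = ⊥ :=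
          Submodule.eq_bot_of_le_smul_of_le_jacobson_bot (EGA4.mB A B) ⊤ Module.Finite.fg_top
            (by rw [h3]) hmle
        haveI : Subsingleton (Submodule B M) := subsingleton_of_bot_eq_top h4.symm
        haveI : Subsingleton M := (Submodule.subsingleton_iff B).1 inferInstance
        rw [Submodule.eq_top_iff']
        intro x
        rw [Subsingleton.elim x 0]
        exact Submodule.zero_mem _
    unfold LocCoh.idealDepth
    rw [if_pos hgoal]
    exact le_top
  · have hex : ∃ r1 ∈ J, ∃ r2 ∈ J, IsSMulRegular (EGA4.FibMod A B M) r1 ∧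
        IsSMulRegular (QuotSMulTop r1 (EGA4.FibMod A B M)) r2 := by
      by_contra hcon
      push Not at hcon
      have hle : (⨆ (rs : List B) (_ : RingTheory.Sequence.IsWeaklyRegular (EGA4.FibMod A B M) rs ∧
          ∀ r ∈ rs, r ∈ J), (rs.length : ℕ∞)) ≤ 1 := by
        refine iSup_le fun rs => iSup_le fun hrs => ?_
        match rs, hrs with
        | [], _ => simp
        | [_], _ => simp
        | r1 :: r2 :: rest, hrs =>
          exfalso
          have h1 := (RingTheory.Sequence.isWeaklyRegular_cons_iff _ r1 (r2 :: rest)).1 hrs.1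
          have h2 := (RingTheory.Sequence.isWeaklyRegular_cons_iff _ r2 rest).1 h1.2
          exact hcon r1 (hrs.2 r1 (by simp)) r2 (hrs.2 r2 (by simp)) h1.1 h2.1
      exact absurd (h2.trans hle) (by norm_num)
    obtain ⟨r1, hr1J, r2, hr2J, hr1, hr2⟩ := hex
    have E1 : ∀ y : M, r1 • y ∈ (𝔪 • ⊤ : Submodule A M) → y ∈ (𝔪 • ⊤ : Submodule A M) := by
      intro y hy
      rw [hP1] at hy ⊢
      exact (isSMulRegular_quotient_iff_mem_of_smul_mem _ r1).1 hr1 y hy
    have E2 : ∀ y : M, (∃ z, r2 • y - r1 • z ∈ (I • ⊤ : Submodule B M)) →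
        ∃ z', y - r1 • z' ∈ (I • ⊤ : Submodule B M) :=
      (isSMulRegular_quotSMulTop_quot_iff _ r1 r2).1 hr2
    haveI hflat' : Module.Flat A (QuotSMulTop r1 M) :=
      flat_quotSMulTop_of_flat A B M r1 E1 (smul_mem_smul_top 𝔪 r1)
    have E1' : ∀ y : QuotSMulTop r1 M, r2 • y ∈ (𝔪 • ⊤ : Submodule A (QuotSMulTop r1 M)) →
        y ∈ (𝔪 • ⊤ : Submodule A (QuotSMulTop r1 M)) := by
      intro y hy
      obtain ⟨y, rfl⟩ := Submodule.Quotient.mk_surjective _ y
      rw [← Submodule.Quotient.mk_smul, mk_mem_smul_top_iff] at hy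
      obtain ⟨w, hw, hyw⟩ := hy
      obtain ⟨z, -, hz⟩ := (Submodule.mem_smul_pointwise_iff_exists _ _ _).1 hyw
      obtain ⟨z', hz'⟩ := E2 y ⟨z, by
        rw [hz, sub_sub_cancel]
        exact (hP1 _).1 hw⟩
      rw [mk_mem_smul_top_iff]
      refine ⟨y - r1 • z', (hP1 _).2 hz', ?_⟩
      rw [sub_sub_cancel]
      exact Submodule.smul_mem_pointwise_smul z' r1 ⊤ Submodule.mem_top
    have G1 : ∀ y : M, r1 • y ∈ (I ^ (n + 1) • ⊤ : Submodule B M) →
        y ∈ (I ^ (n + 1) • ⊤ : Submodule B M) := by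
      intro y hy
      rw [← hP] at hy ⊢
      exact mem_pow_smul_top_of_smul_mem 𝔪 r1 E1 (smul_mem_smul_top 𝔪 r1) (n + 1) y hy
    have G2' : ∀ y : QuotSMulTop r1 M,
        r2 • y ∈ (𝔪 ^ (n + 1) • ⊤ : Submodule A (QuotSMulTop r1 M)) →
        y ∈ (𝔪 ^ (n + 1) • ⊤ : Submodule A (QuotSMulTop r1 M)) :=
      fun y hy => mem_pow_smul_top_of_smul_mem 𝔪 r2 E1' (smul_mem_smul_top 𝔪 r2) (n + 1) y hy
    have G2 : ∀ y : M, (∃ z, r2 • y - r1 • z ∈ (I ^ (n + 1) • ⊤ : Submodule B M)) →
        ∃ z', y - r1 • z' ∈ (I ^ (n + 1) • ⊤ : Submodule B M) := by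
      rintro y ⟨z, hz⟩
      have h3 : r2 • (Submodule.Quotient.mk y : QuotSMulTop r1 M) ∈
          (𝔪 ^ (n + 1) • ⊤ : Submodule A (QuotSMulTop r1 M)) := by
        rw [← Submodule.Quotient.mk_smul, mk_mem_smul_top_iff]
        refine ⟨r2 • y - r1 • z, (hP _ _).2 hz, ?_⟩
        rw [sub_sub_cancel]
        exact Submodule.smul_mem_pointwise_smul z r1 ⊤ Submodule.mem_top
      have h4 := G2' _ h3
      rw [mk_mem_smul_top_iff] at h4
      obtain ⟨w, hw, hyw⟩ := h4
      obtain ⟨z', -, hz'⟩ := (Submodule.mem_smul_pointwise_iff_exists _ _ _).1 hyw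
      refine ⟨z', ?_⟩
      rw [hz', sub_sub_cancel]
      exact (hP _ _).1 hw
    unfold LocCoh.idealDepth
    split_ifs with htop'
    · exact le_top
    · refine le_iSup₂_of_le [r1, r2] ⟨?_, ?_⟩ ?_
      · rw [RingTheory.Sequence.isWeaklyRegular_cons_iff,
          RingTheory.Sequence.isWeaklyRegular_cons_iff]
        exact ⟨(isSMulRegular_quotient_iff_mem_of_smul_mem _ r1).2 G1,
          (isSMulRegular_quotSMulTop_quot_iff _ r1 r2).2 G2,
          RingTheory.Sequence.IsWeaklyRegular.nil _ _⟩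
      · intro r hr
        simp only [List.mem_cons, List.not_mem_nil, or_false] at hr
        rcases hr with rfl | rfl <;> assumption
      · simp

end

end Groth.Agent.Helper7.FibDepth
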